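import Mathlib
import Cfsg.Prelude.Def_SporadicCombinatorics
import Cfsg.Agent.Lib.Asch.TabF

/-! The hexacode: parity checks, weights and monomial automorphisms. -/

set_option autoImplicit false

namespace CfsgLib.Hexa

open Cfsg CfsgLib.Asch

section
variable {F : Type*} [Field F]

/-- The code word with given coefficients. -/
def cw (ω a b c : F) : Fin 6 → F := fun i =>
  a * ![ω, ω * ω, ω * ω, ω, ω * ω, ω] i + b * ![ω * ω, ω, ω, ω * ω, ω * ω, ω] i +
    c * ![ω * ω, ω, ω * ω, ω, ω, ω * ω] i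

/-- The parity checks. -/
def chk (ω : F) (x : Fin 6 → F) : Prop :=
  ω * ω * (x 0 + x 3 + x 5) + ω * (x 1 + x 2 + x 4) = 0 ∧
    ω * ω * (x 1 + x 2 + x 5) + ω * (x 0 + x 3 + x 4) = 0 ∧
      ω * ω * (x 1 + x 3 + x 4) + ω * (x 0 + x 2 + x 5) = 0

instance [DecidableEq F] (ω : F) (x : Fin 6 → F) : Decidable (chk ω x) := by
  unfold chk; infer_instance

theorem mem_iff_cw {ω : F} {x : Fin 6 → F} : x ∈ hexacode F ω ↔ ∃ a b c, cw ω a b c = x := by
  rw [hexacode, Submodule.mem_span_triple]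
  refine exists₃_congr fun a b c => ?_
  refine Eq.congr_left (funext fun i => ?_)
  simp only [cw, Pi.add_apply, Pi.smul_apply, smul_eq_mul, pow_two]

variable {K : Type*} [Field K] (e : F ≃+* K)

theorem map_cw (ω a b c : F) : e ∘ cw ω a b c = cw (e ω) (e a) (e b) (e c) := by
  funext i
  fin_cases i <;> simp [cw]

theorem chk_map (ω : F) (x : Fin 6 → F) : chk (e ω) (e ∘ x) ↔ chk ω x := by
  simp only [chk, Function.comp, ← map_mul, ← map_add, map_eq_zero_iff e e.injective]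

end

theorem chk_cw4 : ∀ ω : TF4, ω * ω + ω + 1 = 0 → ∀ a b c, chk ω (cw ω a b c) := by decide +kernel

theorem cw_of_chk4 : ∀ ω : TF4, ω * ω + ω + 1 = 0 → ∀ x₀ x₁ x₂ x₃ x₄ x₅ : TF4,
    chk ω ![x₀, x₁, x₂, x₃, x₄, x₅] → ∀ i, cw ω (ω * ω * x₀ + ω * x₂ + ω * x₄)
      (ω * x₀ + ω * ω * x₂ + ω * x₄) (ω * x₀ + ω * x₂ + ω * ω * x₄) i =
        ![x₀, x₁, x₂, x₃, x₄, x₅] i := by decide +kernel

theorem cw_inj4 : ∀ ω : TF4, ω * ω + ω + 1 = 0 → ∀ a b c a' b' c' : TF4,
    cw ω a b c 0 = cw ω a' b' c' 0 → cw ω a b c 2 = cw ω a' b' c' 2 →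
      cw ω a b c 4 = cw ω a' b' c' 4 → a = a' ∧ b = b' ∧ c = c' := by decide +kernel

/-- The weight. -/
def wt {F : Type*} [Field F] [DecidableEq F] (x : Fin 6 → F) : ℕ :=
  (Finset.univ.filter fun i => x i ≠ 0).card

theorem wt4 : ∀ ω : TF4, ω * ω + ω + 1 = 0 →
    (∀ a b c, (∀ i, cw ω a b c i = 0) ∨ wt (cw ω a b c) = 4 ∨ wt (cw ω a b c) = 6) ∧
    (Finset.univ.filter fun p : TF4 × TF4 × TF4 => wt (cw ω p.1 p.2.1 p.2.2) = 4).card = 45 ∧
    (Finset.univ.filter fun p : TF4 × TF4 × TF4 => wt (cw ω p.1 p.2.1 p.2.2) = 6).card = 18 := by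
  decide +kernel

/-- The three checks for a monomial map with inverse permutation `s`. -/
def ok {F : Type*} [Field F] (ω : F) (s : Fin 6 → Fin 6) (c : Fin 6 → F) : Prop :=
  chk ω (fun i => c i * cw ω 1 0 0 (s i)) ∧ chk ω (fun i => c i * cw ω 0 1 0 (s i)) ∧
    chk ω (fun i => c i * cw ω 0 0 1 (s i))

instance {F : Type*} [Field F] [DecidableEq F] (ω : F) (s : Fin 6 → Fin 6) (c : Fin 6 → F) :
    Decidable (ok ω s c) := by
  unfold ok; infer_instance

theorem ok_map {F K : Type*} [Field F] [Field K] (e : F ≃+* K) (ω : F) (s : Fin 6 → Fin 6)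
    (c : Fin 6 → F) : ok (e ω) s (e ∘ c) ↔ ok ω s c := by
  have h : ∀ a b d : F, (fun i => (e ∘ c) i * cw (e ω) (e a) (e b) (e d) (s i)) =
      e ∘ fun i => c i * cw ω a b d (s i) := fun a b d => by
    rw [← map_cw]; funext i; simp
  have h1 := h 1 0 0
  have h2 := h 0 1 0
  have h3 := h 0 0 1
  simp only [map_one, map_zero] at h1 h2 h3
  rw [ok, ok, h1, h2, h3, chk_map, chk_map, chk_map]

theorem diag4 : ∀ ω : TF4, ω * ω + ω + 1 = 0 → ∀ c₀ c₁ c₂ c₃ c₄ c₅ : TF4,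
    ok ω id ![c₀, c₁, c₂, c₃, c₄, c₅] → c₁ = c₀ ∧ c₂ = c₀ ∧ c₃ = c₀ ∧ c₄ = c₀ ∧ c₅ = c₀ := by
  decide +kernel

theorem swap4 : ∀ ω : TF4, ω * ω + ω + 1 = 0 → ∀ c₀ c₁ c₂ c₃ c₄ c₅ : TF4,
    ok ω (Equiv.swap 0 1) ![c₀, c₁, c₂, c₃, c₄, c₅] → c₀ = 0 := by
  decide +kernel

/-- Exponents of the scalars for the three-cycles. -/
def tab : ℕ := 0xaa4558090060000558000aa4168948000aa4558000264624000060618984000090000090498894060000000000558aa4060090000000000000000000aa4000000558894984558000aa4000498618090000624948000060060000264168090000000aa4000558618498558000000aa4624264000000000000000000aa4558000000900600168894000600000900948984000900600000000558aa4000984894aa4000558000948168558aa4000000600900000000000000000000264498900000000600624618600000900000000090168264000060060000894498000090618624000900000600984948600000000900000000000000000000090060900600000000000060948624090000090000984618060000498264000600900000894168900000600000060090600900000000000000000000000000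

/-- The exponent for the three-cycle on `a, b, c` at `i`. -/
def ex (a b c i : Fin 6) : ℕ := (tab >>> (2 * (6 * (36 * a.1 + 6 * b.1 + c.1) + i.1))) % 4

theorem three4 : ∀ ω : TF4, ω * ω + ω + 1 = 0 → ∀ a b c : Fin 6, a ≠ b → a ≠ c → b ≠ c →
    ok ω (fun i => Equiv.swap a c (Equiv.swap a b i)) fun i => ω ^ ex a b c i := by
  decide +kernel

section
variable {F : Type*} [Field F] [Fintype F] (hF : Fintype.card F = 4) {ω : F}
  (hω : ω ^ 2 + ω + 1 = 0)
include hF hω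

theorem exists_equiv : ∃ (e : TF4 ≃+* F) (w : TF4), w * w + w + 1 = 0 ∧ e w = ω := by
  let e : TF4 ≃+* F := FiniteField.ringEquivOfCardEq (by rw [hF]; exact card_TF4)
  refine ⟨e, e.symm ω, e.injective ?_, e.apply_symm_apply ω⟩
  simpa [pow_two] using hω

theorem mem_iff_chk {x : Fin 6 → F} : x ∈ hexacode F ω ↔ chk ω x := by
  obtain ⟨e, w, hw, rfl⟩ := exists_equiv hF hω
  obtain ⟨y, rfl⟩ : ∃ y, x = e ∘ y := ⟨e.symm ∘ x, by funext i; simp⟩
  rw [mem_iff_cw, chk_map]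
  constructor
  · rintro ⟨a, b, c, h⟩
    have : y = cw w (e.symm a) (e.symm b) (e.symm c) := by
      funext i
      apply e.injective
      have h1 := congrFun (map_cw e w (e.symm a) (e.symm b) (e.symm c)) i
      simp only [RingEquiv.apply_symm_apply, h] at h1
      exact h1.symm
    rw [this]; exact chk_cw4 w hw _ _ _
  · intro h
    have hy : y = ![y 0, y 1, y 2, y 3, y 4, y 5] := by funext i; fin_cases i <;> rfl
    rw [hy] at h
    exact ⟨_, _, _, by rw [← map_cw, funext (cw_of_chk4 w hw _ _ _ _ _ _ h), ← hy]⟩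

theorem pres_iff (σ : Equiv.Perm (Fin 6)) (c : Fin 6 → Fˣ) :
    (∀ x ∈ hexacode F ω, monomialMap σ c x ∈ hexacode F ω) ↔ ok ω σ.symm fun i => c i := by
  constructor
  · intro h
    exact ⟨(mem_iff_chk hF hω).1 (h _ (mem_iff_cw.2 ⟨1, 0, 0, rfl⟩)),
      (mem_iff_chk hF hω).1 (h _ (mem_iff_cw.2 ⟨0, 1, 0, rfl⟩)),
      (mem_iff_chk hF hω).1 (h _ (mem_iff_cw.2 ⟨0, 0, 1, rfl⟩))⟩
  · rintro ⟨h1, h2, h3⟩ x hx
    obtain ⟨a, b, d, rfl⟩ := mem_iff_cw.1 hx
    have : monomialMap σ c (cw ω a b d) = a • (fun i => (c i : F) * cw ω 1 0 0 (σ.symm i)) +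
        b • (fun i => (c i : F) * cw ω 0 1 0 (σ.symm i)) +
        d • (fun i => (c i : F) * cw ω 0 0 1 (σ.symm i)) := by
      funext i
      simp only [monomialMap, cw, Pi.add_apply, Pi.smul_apply, smul_eq_mul]
      ring
    rw [this]
    exact add_mem (add_mem (Submodule.smul_mem _ _ ((mem_iff_chk hF hω).2 h1))
      (Submodule.smul_mem _ _ ((mem_iff_chk hF hω).2 h2)))
      (Submodule.smul_mem _ _ ((mem_iff_chk hF hω).2 h3))

theorem diag {c : Fin 6 → F} (h : ok ω id c) (i j : Fin 6) : c i = c j := by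
  obtain ⟨e, w, hw, rfl⟩ := exists_equiv hF hω
  obtain ⟨y, rfl⟩ : ∃ y, c = e ∘ y := ⟨e.symm ∘ c, by funext i; simp⟩
  rw [ok_map] at h
  have hy : y = ![y 0, y 1, y 2, y 3, y 4, y 5] := by funext i; fin_cases i <;> rfl
  rw [hy] at h
  obtain ⟨h1, h2, h3, h4, h5⟩ := diag4 w hw _ _ _ _ _ _ h
  have key : ∀ i, y i = y 0 := fun i => by fin_cases i <;> first | rfl | assumption
  simp only [Function.comp, key i, key j]

theorem not_swap {c : Fin 6 → F} (h : ok ω (Equiv.swap 0 1) c) : c 0 = 0 := by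
  obtain ⟨e, w, hw, rfl⟩ := exists_equiv hF hω
  obtain ⟨y, rfl⟩ : ∃ y, c = e ∘ y := ⟨e.symm ∘ c, by funext i; simp⟩
  rw [ok_map] at h
  have hy : y = ![y 0, y 1, y 2, y 3, y 4, y 5] := by funext i; fin_cases i <;> rfl
  rw [hy] at h
  simp [swap4 w hw _ _ _ _ _ _ h]

theorem three {a b c : Fin 6} (h1 : a ≠ b) (h2 : a ≠ c) (h3 : b ≠ c) :
    ok ω (fun i => Equiv.swap a c (Equiv.swap a b i)) fun i => ω ^ ex a b c i := by
  obtain ⟨e, w, hw, rfl⟩ := exists_equiv hF hω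
  have := (ok_map e w _ _).2 (three4 w hw a b c h1 h2 h3)
  convert this using 2
  simp

end

end CfsgLib.Hexa
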